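import Cfsg.Agent.ThT.Mat

set_option autoImplicit false
set_option Elab.async false
set_option maxRecDepth 100000

namespace Cfsg.Agent.ThT.Mo

open Cfsg.Agent.Comp.BN Cfsg.Agent.Spor.ThC.Mat

def f0 : List (List ℕ × List ℕ) :=
  [([0, 0], []),
   ([1, 1], []),
   ([2, 2], []),
   ([3, 3], []),
   ([4, 4], []),
   ([5, 5], []),
   ([6, 6], []),
   ([7, 7], []),
   ([8, 8], []),
   ([1, 0], [0, 1]),
   ([2, 0], [0, 2]),
   ([2, 1], [1, 2]),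
   ([3, 0], [0, 3]),
   ([3, 1], [1, 3]),
   ([3, 2], [2, 3]),
   ([4, 0], [0, 4]),
   ([4, 1], [1, 4]),
   ([4, 2], [2, 4]),
   ([4, 3], [3, 4]),
   ([5, 0], [0, 5]),
   ([5, 1], [1, 5, 0]),
   ([5, 2], [2, 5]),
   ([5, 3], [3, 5]),
   ([5, 4], [4, 5]),
   ([6, 0], [0, 6]),
   ([6, 1], [1, 6]),
   ([6, 2], [2, 6, 0]),
   ([6, 3], [3, 6]),
   ([6, 4], [4, 6]),
   ([6, 5], [5, 6]),
   ([7, 0], [0, 7]),
   ([7, 1], [1, 7]),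
   ([7, 2], [2, 7]),
   ([7, 3], [3, 7, 0]),
   ([7, 4], [4, 7]),
   ([7, 5], [5, 7]),
   ([7, 6], [6, 7]),
   ([8, 0], [0, 8])]

theorem ok0 : allL (fun p => q.eqC LL p.1 p.2) f0 = true :=
  by decide +kernel

def f1 : List (List ℕ × List ℕ) :=
  [([8, 1], [1, 8]),
   ([8, 2], [2, 8]),
   ([8, 3], [3, 8]),
   ([8, 4], [4, 8, 0]),
   ([8, 5], [5, 8]),
   ([8, 6], [6, 8]),
   ([8, 7], [7, 8]),
   ([9, 0], [0, 9]),
   ([9, 1], [1, 6, 9]),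
   ([9, 2], [2, 5, 9]),
   ([9, 3], [0, 3, 8, 9]),
   ([9, 4], [0, 4, 7, 9]),
   ([9, 5], [2, 9]),
   ([9, 6], [1, 9]),
   ([9, 7], [4, 9]),
   ([9, 8], [3, 9]),
   ([11, 0], [0, 11]),
   ([11, 1], [1, 11]),
   ([11, 2], [3, 11]),
   ([11, 3], [4, 11]),
   ([11, 4], [2, 3, 11]),
   ([11, 5], [5, 11]),
   ([11, 6], [6, 7, 11]),
   ([11, 7], [8, 11]),
   ([11, 8], [6, 11]),
   ([13, 0], [0, 13]),
   ([13, 1], [1, 13]),
   ([13, 2], [2, 13]),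
   ([13, 3], [3, 4, 13]),
   ([13, 4], [3, 13])]

theorem ok1 : allL (fun p => q.eqC LL p.1 p.2) f1 = true :=
  by decide +kernel

def f2 : List (List ℕ × List ℕ) :=
  [([13, 5], [5, 13]),
   ([13, 6], [6, 13]),
   ([13, 7], [8, 13]),
   ([13, 8], [7, 8, 13]),
   ([5, 1], [0, 1, 5]),
   ([16, 0], [0, 16]),
   ([16, 1], [1, 16]),
   ([16, 2], [0, 1, 2, 16]),
   ([16, 3], [3, 16]),
   ([16, 4], [4, 16]),
   ([17, 0], [0, 17]),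
   ([17, 1], [1, 17]),
   ([17, 2], [1, 2, 17]),
   ([17, 3], [4, 17]),
   ([17, 4], [3, 17]),
   ([19, 0], [0, 19]),
   ([19, 1], [0, 1, 2, 19]),
   ([19, 2], [0, 2, 19]),
   ([19, 3], [4, 19]),
   ([19, 4], [3, 19]),
   ([9, 9, 9], []),
   ([10, 9], []),
   ([13, 9], [9, 13]),
   ([11, 11, 11, 11, 11, 11, 11], []),
   ([13, 13, 13], []),
   ([12, 11], []),
   ([14, 13], []),
   ([14, 11, 13], [11, 11])]

theorem ok2 : allL (fun p => q.eqC LL p.1 p.2) f2 = true :=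
  by decide +kernel

def f3 : List (List ℕ × List ℕ) :=
  [([9, 11, 9, 11, 9, 11, 11, 11, 10, 11, 9, 11, 9, 13, 11, 9, 11, 10, 11, 11, 13, 0, 1, 3, 4, 5, 6, 7, 8], [15]),
   ([11, 9, 14, 11, 10, 11, 9, 14, 12, 10, 12, 9, 12, 10, 11, 0, 4, 6], [16]),
   ([11, 9, 12, 12, 9, 12, 12, 9, 11, 9, 12, 11, 11, 10, 11, 11, 10, 12, 0, 2, 3, 4, 5, 7, 8], [17])]

theorem ok3 : allL (fun p => q.eqC LL p.1 p.2) f3 = true :=
  by decide +kernel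

def f4 : List (List ℕ × List ℕ) :=
  [([9, 11, 11, 11, 11, 11, 11, 10, 12, 12, 12, 12, 12, 12, 11, 11, 11, 11, 11, 9, 12, 12, 12, 12, 12, 11, 11, 11, 11, 10, 12, 12, 12, 12, 11, 11, 11, 9, 12, 12, 12, 11, 11, 10, 12, 12, 11, 9, 12, 10, 1, 2, 4], [11])]

theorem ok4 : allL (fun p => q.eqC LL p.1 p.2) f4 = true :=
  by decide +kernel

def f5 : List (List ℕ × List ℕ) :=
  [([11, 9, 12, 11, 11, 11, 9, 12, 12, 12, 11, 11, 9, 12, 12, 11, 11, 11, 11, 11, 11, 9, 12, 12, 12, 12, 12, 12, 11, 11, 11, 11, 9, 12, 12, 12, 12, 11, 11, 11, 11, 11, 9, 12, 12, 12, 12, 12, 11, 9, 12, 11, 11, 11, 9, 12, 12, 12, 1, 2, 3, 4, 5, 6, 7, 8], [13]),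
   ([17, 17], [0, 1])]

theorem ok5 : allL (fun p => q.eqC LL p.1 p.2) f5 = true :=
  by decide +kernel

end Cfsg.Agent.ThT.Mo
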