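import Cfsg.Agent.ThT.Code
import Cfsg.Agent.XSC.Gr

/-! The two searches for the matrix of a three-cycle on an orthogonal module of order `256`. -/

set_option autoImplicit false
set_option maxRecDepth 100000

namespace Cfsg.Agent.ThT

open Equiv Cfsg.Agent.J4 Cfsg.Agent.Comp.BN Cfsg.Agent.KSG Cfsg.Agent.XSC

def a3 (a b c : Fin 9) (h : a ≠ b ∧ b ≠ c := by decide) : A9 := ⟨c3 a b c, c3_mem_alternatingGroup h.1 h.2⟩

def sw2 (a b c d : Fin 9) (h : a ≠ b ∧ c ≠ d := by decide) : A9 :=
  ⟨swap a b * swap c d, by simp [Perm.mem_alternatingGroup, h.1, h.2]⟩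

def k1 : A9 := a3 0 1 2
def k2 : A9 := a3 3 4 5
def k3 : A9 := a3 6 7 8
def kn : A9 := sw2 0 6 1 7 * sw2 2 8 3 4
def ka : A9 := a3 3 4 6

/-- the letters of the classification -/
noncomputable def rc : ℕ → A9 := nth 1 [k1, k2, k3, kn, ka]

/-- the standard generators, of orders three, seven and three -/
noncomputable def gs : ℕ → A9 := nth 1 [a3 0 7 8, a3 0 1 2 * a3 2 3 4 * a3 4 5 6, a3 1 4 2 * a3 3 5 6]

/-- their matrices on the spin module -/
noncomputable def spin : ℕ → ℕ :=
  nth i8 [77409032540688628920164385, 619574593237465906372689921, 3714424617663940161410441217]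

/-- their matrices on the natural module -/
noncomputable def natm : ℕ → ℕ :=
  nth i8 [155332837627198749433655356, 2476139900966105848203010135, 2476333517991340553971720295]

def U0 : List (List ℕ) := [[2, 4, 2, 2, 3, 4, 3, 4, 2, 4, 4], [3, 1, 4, 2, 3, 4, 1, 1], [4, 3, 1, 4, 2, 2, 4, 4, 3]]
def U1 : List (List ℕ) := [[2], [4, 4, 3, 4, 2, 4, 3, 4, 1], [3, 4, 2, 2, 4, 1, 3]]

theorem ev_U0 : ∀ k < 3, ev rc (nth [] U0 k) = gs k := by decide +kernel

theorem ev_U1 : ∀ k < 3, swap 0 6 * (ev rc (nth [] U1 k)).1 * (swap 0 6)⁻¹ = (gs k).1 := by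
  decide +kernel

/-- the quadratic form on four planes, with free values on the last two basis vectors -/
noncomputable def qb (α β v : ℕ) : ℕ :=
  Nat.xor (par (Nat.land (Nat.lor v (Nat.shiftRight v 1)) 21))
    (Nat.land (Nat.xor (Nat.xor (Nat.land (Nat.shiftRight v 6) α) (Nat.land (Nat.shiftRight v 7) β))
      (Nat.land (Nat.shiftRight v 6) (Nat.shiftRight v 7))) 1)

theorem qb_xor : ∀ α < 2, ∀ β < 2, ∀ v < 256, ∀ i < 8,
    qb α β (v ^^^ 2 ^ i) = qb α β v ^^^ qb α β (2 ^ i) ^^^ bb v (2 ^ i) := by decide +kernel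

theorem qb_basis : ∀ α < 2, ∀ β < 2, qb α β 0 = 0 ∧ (∀ i < 6, qb α β (2 ^ i) = 1) ∧
    qb α β (2 ^ 6) = α ∧ qb α β (2 ^ 7) = β := by decide +kernel

theorem qb_lt : ∀ α < 2, ∀ β < 2, ∀ v < 256, qb α β v < 2 := by decide +kernel

/-- the matrix is the identity -/
noncomputable def idC (M : ℕ) : Bool :=
  Comp.force M fun M => allN (fun i => Nat.beq (app M (Nat.pow 2 i)) (Nat.pow 2 i)) 8

/-- the seventh power -/
noncomputable def p7 (M : ℕ) : ℕ :=
  Comp.force M fun M => Comp.force (mm (mm M M) M) fun N => mm (mm N N) M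

def m1 : ℕ := 3714424636115188384436072450
def m2 : ℕ := 1238846752110346944139767810
def m3 : ℕ := 1238846788999330942242795522
def mn : ℕ := 3714122351617169790882414608

/-- the matrix commuting with `m1` with the given even rows -/
noncomputable def mA (a b c d : ℕ) : ℕ :=
  mkM (nth 0 [a, app m1 a, b, app m1 b, c, app m1 c, d, app m1 d])

noncomputable def sc (a b c r : ℕ) : Bool :=
  band (band (Nat.beq (bb a r) (bb 1 c)) (Nat.beq (bb (app m1 a) r) (bb 2 c)))
    (band (Nat.beq (bb b r) (bb 4 c)) (Nat.beq (bb (app m1 b) r) (bb 8 c)))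

noncomputable def msS (A : ℕ) : ℕ → ℕ := nth i8 [m1, m2, m3, mn, A]

noncomputable def spinC : Bool :=
  allN (fun a => allN (fun b => allN (fun c => bif' (sc (16 * a + 3) (16 * b + 12) (32 + c) 16)
    (allN (fun d => bif' (sc (16 * a + 3) (16 * b + 12) (128 + d) 64)
      (Comp.force (mA (16 * a + 3) (16 * b + 12) (32 + c) (128 + d)) fun A =>
        bif' (idC (p7 (mw (msS A) [4, 3, 2])))
          (bor (anyL (fun T => chgC (qb 1 1) (msS A) T U0 spin) [4313924300754956962262671529,
              4913485393008859413748830363, 4584803962277785915255287994])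
            (anyL (fun T => chgC (qb 1 1) (msS A) T U1 spin) [116874032576196818515193968,
              97465087893583059007430752, 136297144371766687255482448])) true) true) 16) true) 16) 16) 16

theorem spinC_ok : spinC = true := by decide +kernel

theorem spin_s1 : ∀ a < 256,
    (app m1 a ^^^ app m2 a = a ^^^ 2 ^^^ 1 → a % 16 = 3) ∧
    (app m1 a ^^^ app m2 a = a ^^^ 8 ^^^ 4 → a % 16 = 12) ∧
    (app m1 (app m1 a) ^^^ app m2 a = a ^^^ 48 ^^^ 16 → a / 16 = 2) ∧
    (app m1 (app m1 a) ^^^ app m2 a = a ^^^ 192 ^^^ 64 → a / 16 = 8) := by decide +kernel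

def n1 : ℕ := 2476182346923656503961333762
def n2 : ℕ := 2476182346923656778906345473
def n3 : ℕ := 2476182365374904177298251777

/-- the element of order three with commutator plane spanned by `a` and `b` -/
noncomputable def fA (a b v : ℕ) : ℕ :=
  Nat.xor (Nat.xor v (Nat.mul (bb v b) (Nat.xor a b))) (Nat.mul (bb v a) a)

noncomputable def nA (a b : ℕ) : ℕ := mkM fun i => bif' (Nat.blt i 8) (fA a b (Nat.pow 2 i)) 0

noncomputable def nN (i j : ℕ) : ℕ := mkM (nth 0 [16, 32, 4, 12, 1, 2, 64 * i, 64 * j])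

noncomputable def msN (N A : ℕ) : ℕ → ℕ := nth i8 [n1, n2, n3, N, A]

def rws : List (List ℕ) := [[2, 2, 4, 1, 3, 4], [0, 2, 2, 4, 1, 3, 4], [0, 0, 2, 2, 4, 1, 3, 4],
  [2, 2, 4, 4], [2, 2, 4], [1, 2, 2, 4], [4, 2, 2, 4], [2, 4, 2, 4]]

noncomputable def nT (N A : ℕ) : ℕ :=
  mm (mkM fun i => bif' (Nat.blt i 8) (app (mw (msN N A) (nth [] rws i)) 4) 0) 2457004846614669294550880271

noncomputable def natC (α β : ℕ) : Bool :=
  allN (fun a => bif' (Nat.beq (qb α β (4 * a)) 1) (allN (fun b =>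
    bif' (band (Nat.beq (qb α β (4 * b)) 1) (Nat.beq (bb (4 * a) (4 * b)) 1))
      (Comp.force (nA (4 * a) (4 * b)) fun A =>
        bif' (Comp.force (mm A n2) fun M => idC (mm M M))
          (allN (fun i => allN (fun j => Comp.force (nN i j) fun N =>
            bif' (band (band (idC (mm N N)) (allN (fun r => Nat.beq (qb α β (app N (64 * r))) (qb α β (64 * r))) 4))
                (idC (p7 (mw (msN N A) [4, 3, 2]))))
              (chgC (qb α β) (msN N A) (nT N A) U0 natm) true) 4) 4) true) true) 64) true) 64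

theorem natC_ok : ∀ α < 2, ∀ β < 2, natC α β = true := by decide +kernel

theorem nat_s1 : ∀ a < 256, (app n1 a = a → a % 4 = 0) ∧
    (app n1 a = a → app n2 a = a → app n3 a = a → a % 64 = 0) := by decide +kernel

end Cfsg.Agent.ThT
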