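import Cfsg.Agent.ThT.Set
import Cfsg.Agent.XSC.WcD
import Cfsg.Agent.U6R.Setting

/-! The involution is fused into its large extraspecial subgroup, and the module is the spin module. -/

set_option autoImplicit false
set_option maxRecDepth 100000

namespace Cfsg.Agent.ThT

open Subgroup Cfsg.Agent.J4 Cfsg.Agent.Comp.BN Cfsg.Agent.TT Cfsg.Agent.LES Cfsg.Agent.XSC
  Cfsg.Agent.XSC.WC

variable {G : Type*} [Group G] {Q P : Subgroup G} {z s : G} {π : G → A9} {cd : G → ℕ} {S : ℕ → ℕ}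

/-- either some commutator is not singular, or the fixed space is totally isotropic -/
def TyC (M : ℕ) : Prop := (∃ v < 256, qf (v ^^^ app M v) = 1) ∨
  ∀ v < 256, app M v = v → ∀ w < 256, app M w = w → bf v w = 0

theorem tyC_all : TyC (mw spin w2) ∧ TyC (mw spin w4) ∧ TyC (mw natm w2) ∧ TyC (mw natm w4) :=
  ⟨Or.inr (by
    rw [show mw spin w2 = 1238544539102186810799828993 by decide +kernel]; decide +kernel),
    Or.inl ⟨16, by decide +kernel⟩, Or.inl ⟨1, by decide +kernel⟩, Or.inl ⟨128, by decide +kernel⟩⟩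

theorem TS.ab (h : TS Q z π cd S) (hS : S = spin ∨ S = natm) (d : Sd Q z s) :
    ∀ a ∈ Q, a * s = s * a → ∀ a' ∈ Q, a' * s = s * a' → a * a' = a' * a := by
  obtain ⟨c, hc, e⟩ := h.inv_cases d.s_comm (d.s_sq ▸ Q.one_mem) d.s_not
  have t := h.twist hc
  obtain ⟨W, e, k⟩ : ∃ W, π (c * s * c⁻¹) = ev gs W ∧ TyC (mw S W) := by
    obtain ⟨k1, k2, k3, k4⟩ := tyC_all
    rcases hS with rfl | rfl <;> rcases e with e | e
    exacts [⟨_, e, k1⟩, ⟨_, e, k2⟩, ⟨_, e, k3⟩, ⟨_, e, k4⟩]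
  have w := fun x => t.word W d.s_comm e (x := x)
  rcases k with ⟨v, hv, k⟩ | k
  · obtain ⟨y, hy, rfl⟩ := t.onto v hv
    have := (t.sq _ (d.uu_mem hy)).1 (d.uu_sq hy)
    rw [show uu s y = y * (s * y⁻¹ * s⁻¹) by rw [d.s_inv, uu]; group,
      t.add _ hy _ (t.norm _ d.s_comm _ (Q.inv_mem hy)), w _ (Q.inv_mem hy), t.inv hy, k] at this
    exact absurd this one_ne_zero
  · intro a ha e1 b hb e2
    refine (t.comm_iff ha hb).2 (k _ (t.lt a ha) ?_ _ (t.lt b hb) ?_)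
    · rw [← w a ha, conj_eq_of_comm e1.symm]
    · rw [← w b hb, conj_eq_of_comm e2.symm]

/-- the weakly closed configuration -/
structure We (Q : Subgroup G) (z : G) : Prop extends Wk Q z where
  ts : ∃ π cd S, TS Q z π cd S ∧ (S = spin ∨ S = natm)

theorem We.map_conj (h : We Q z) (g : G) :
    We (Q.map (MulAut.conj g).toMonoidHom) (g * z * g⁻¹) := by
  obtain ⟨π, cd, S, t, e⟩ := h.ts
  exact ⟨h.toWk.map_conj g, _, _, S, t.map_conj g, e⟩

theorem We.cQ (h : We Q z) : Nat.card Q = 2 ^ 9 := by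
  obtain ⟨π, cd, S, t, -⟩ := h.ts
  exact t.card

theorem We.ab (h : We Q z) (d : Sd Q z s) :
    ∀ a ∈ Q, a * s = s * a → ∀ a' ∈ Q, a' * s = s * a' → a * a' = a' * a := by
  obtain ⟨π, cd, S, t, e⟩ := h.ts
  exact t.ab e d

theorem no_nb [Finite G] (hQ : We Q z) (hP : We P s) (h : Nb Q z P s) : False := by
  have hA := hQ.ab h.sd
  have hB := hP.ab h.symm.sd
  have d := h.sd
  obtain ⟨y1, y2, y3, y4, hy⟩ := d.exists_SB hQ.cQ hA
  obtain ⟨x1, x2, x3, x4, hx⟩ := h.symm.sd.exists_SB hP.cQ hB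
  have ins : ∀ a, (∀ b ∈ P, b * z = z * b → a * b = b * a) → a * s = s * a → a * a = 1 →
      ∀ x ∈ P, uu a x ∈ P ∧ uu a x * z = z * uu a x := by
    intro a hAB has haa x hx
    have e : uu a x = x * (a * x⁻¹ * a⁻¹) := by
      rw [inv_eq_of_mul_eq_one_right haa]; simp only [uu, mul_assoc]
    have h1 := h.r.norm a has _ (P.inv_mem hx)
    refine ⟨e ▸ P.mul_mem hx h1, h.symm.sd.comm_s_of_cent (e ▸ P.mul_mem hx h1) fun b hb hbz => ?_⟩
    rw [← cmv_eq_zero, e, cmv_mul_right h.r.toXS hx h1 hb,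
      ← conj_eq_of_comm (hAB b hb hbz), cmv_conj, conj_eq_of_comm (hAB b hb hbz),
      cmv_comm b x⁻¹, cmv_inv_left, cmv_comm x, zmod2_add_self]
  have add : ∀ a, (∀ b ∈ P, b * z = z * b → a * b = b * a) → a * s = s * a → a * a = 1 →
      ∀ a', (∀ b ∈ P, b * z = z * b → a' * b = b * a') → a' * s = s * a' → a' * a' = 1 →
      a' * a = a * a' → om x1 x2 x3 x4 (a * a') = om x1 x2 x3 x4 a + om x1 x2 x3 x4 a' := by
    intro a ha has haa a' ha' has' haa' hc
    have : ∀ x ∈ P, ∀ w ∈ P, cmv (uu (a * a') x) w = cmv (uu a x) w + cmv (uu a' x) w := by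
      intro x hx w hw
      obtain ⟨i1, i2⟩ := ins a' ha' has' haa' x hx
      rw [← cmv_mul_left h.r.toXS (ins a ha has haa x hx).1 i1 hw]
      congr 1
      have e1 := conj_eq_of_comm (ha _ i1 i2)
      rw [inv_eq_of_mul_eq_one_right haa] at e1
      rw [← e1]
      have : ∀ x, a * (a * x) = x := fun x => by rw [← mul_assoc, haa, one_mul]
      simp only [uu, mul_assoc, this, inv_mul_cancel_left, hc]
    simp only [om, this _ hx.m1 _ hx.m2, this _ hx.m1 _ hx.m3, this _ hx.m1 _ hx.m4,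
      this _ hx.m2 _ hx.m3, this _ hx.m2 _ hx.m4, this _ hx.m3 _ hx.m4]
    ext i
    fin_cases i <;> rfl
  have one : ∀ y ∈ Q, (∀ b ∈ P, b * z = z * b → uu s y * b = b * uu s y) → y * s ≠ s * y →
      pf (om x1 x2 x3 x4 (uu s y)) = 1 := by
    intro y hy hAB hys
    have n := h.nb hy (mt (uu_eq_one_iff d.s_sq).1 hys) (d.uu_ne_z y) (d.uu_sq hy)
    have := pf_eq_one h.symm.sd hx n.sd (fun b hb hbz => by
        rw [← uu_mul_s d.s_sq]
        exact (comm_mul_left (hAB b hb hbz) (h.r.z_comm b hb).symm).symm)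
      (hP.ab n.sd)
    have e : ∀ x ∈ P, uu (y * s * y⁻¹) x = uu (uu s y) x := fun x hx => by
      have e1 := d.uu_comm_s hy
      have e2 := h.r.z_comm _ (P.inv_mem hx)
      rw [← uu_mul_s d.s_sq]
      generalize uu s y = v at e1 ⊢
      calc uu (v * s) x = x * v * (s * x⁻¹) * (v * s) := by simp only [uu, mul_assoc]
        _ = x * v * x⁻¹ * (s * s) * v := by rw [← e2, e1]; simp only [mul_assoc]
        _ = _ := by rw [d.s_sq, mul_one, uu]
    rwa [om, e _ hx.m1, e _ hx.m2, e _ hx.m3] at this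
  have hz : ∀ b ∈ P, b * z = z * b → z * b = b * z := fun _ _ e => e.symm
  have addz : ∀ y ∈ Q, (∀ b ∈ P, b * z = z * b → uu s y * b = b * uu s y) →
      ∀ w ∈ Q, (∀ b ∈ P, b * z = z * b → uu s w * b = b * uu s w) → cmv (uu s y) w = 1 →
      om x1 x2 x3 x4 (uu s (y * w)) =
      om x1 x2 x3 x4 (uu s y) + om x1 x2 x3 x4 (uu s w) + om x1 x2 x3 x4 z :=
    fun y hy cy w hw cw e => by
    rw [d.uu_mul_of_ne hy hw e, add _ (fun b hb hbz => comm_mul_left (cy b hb hbz) (cw b hb hbz))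
      (comm_mul_left (d.uu_comm_s hy) (d.uu_comm_s hw)) _ z hz d.s_comm.symm d.z_sq
      (d.z_comm _ (Q.mul_mem (d.uu_mem hy) (d.uu_mem hw))).symm,
      add _ cy (d.uu_comm_s hy) (d.uu_sq hy) _ cw (d.uu_comm_s hw) (d.uu_sq hw) (d.uu_comm_uu hw hy)]
    rw [mul_assoc, ← mul_assoc (uu s w), ← d.uu_comm_uu hy hw, mul_assoc, d.uu_sq hw, mul_one,
      d.uu_sq hy]
  have M : ∀ y ∈ Q, y * s ≠ s * y → (∀ w ∈ Q, cmv (uu s y) w = 0 →
      ∀ b ∈ P, b * z = z * b → uu s w * b = b * uu s w) →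
      pb (om x1 x2 x3 x4 (uu s y)) (om x1 x2 x3 x4 z) = 1 := by
    intro y my ny cy
    obtain ⟨p, mp, q, mq, e1, e2, e3⟩ := hy.hyp d my
    have L : ∀ w ∈ Q, ∀ w' ∈ Q, cmv (uu s y) w = 0 → cmv (uu s y) w' = 0 → cmv (uu s w) w' = 1 →
        pb (om x1 x2 x3 x4 (uu s y)) (om x1 x2 x3 x4 (uu s w)) = 1 := by
      intro w hw w' hw' e1 e2 e3
      have c1 := cy y my (d.beta_self my)
      refine pb_of (one y my c1 ny) (one w hw (cy w hw e1) (d.ne_of_beta e3)) ?_
      rw [← add _ c1 (d.uu_comm_s my) (d.uu_sq my) _ (cy w hw e1) (d.uu_comm_s hw) (d.uu_sq hw)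
        (d.uu_comm_uu hw my), ← d.uu_mul_of_comm my hw e1]
      refine one _ (Q.mul_mem my hw) (cy _ (Q.mul_mem my hw) ?_) (d.ne_of_beta (w := w') ?_)
      · rw [d.beta_right my my hw, e1, d.beta_self my, add_zero]
      · rw [d.beta_left my hw hw', e2, e3, zero_add]
    have l3 := L _ (Q.mul_mem mp mq) q mq (by rw [d.beta_right my mp mq, e1, e2, add_zero]) e2
      (by rw [d.beta_left mp mq mq, e3, d.beta_self mq, add_zero])
    rwa [addz p mp (cy p mp e1) q mq (cy q mq e2) e3, pb_right, pb_right, L p mp q mq e1 e2 e3,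
      L q mq p mp e2 e1 (d.beta_symm mp mq ▸ e3), zmod2_add_self, zero_add] at l3
  by_cases hAB : ∀ w ∈ Q, ∀ b ∈ P, b * z = z * b → uu s w * b = b * uu s w
  · have b21 := d.beta_symm hy.m1 hy.m2 ▸ hy.b12
    have k1 := M y1 hy.m1 (d.ne_of_beta hy.b12) fun w hw _ => hAB w hw
    have k2 := M y2 hy.m2 (d.ne_of_beta b21) fun w hw _ => hAB w hw
    have k3 := M _ (Q.mul_mem hy.m1 hy.m2) (d.ne_of_beta (w := y2) (by
      rw [d.beta_left hy.m1 hy.m2 hy.m2, hy.b12, d.beta_self hy.m2, add_zero])) fun w hw _ => hAB w hw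
    rw [addz y1 hy.m1 (hAB _ hy.m1) y2 hy.m2 (hAB _ hy.m2) hy.b12, pb_left, pb_left, k1, k2,
      pb_self] at k3
    exact absurd k3 (by decide)
  push Not at hAB
  obtain ⟨w0, mw0, b0, mb0, zb0, n0⟩ := hAB
  have ne1 : ∀ {a b : G}, a * b ≠ b * a → a * b * a⁻¹ * b⁻¹ ≠ 1 := fun n e => n (by
    rwa [mul_inv_eq_one, mul_inv_eq_iff_eq_mul] at e)
  obtain ⟨cQ, cP⟩ := h.comm_mem (d.uu_mem mw0) (d.uu_comm_s mw0) mb0 zb0
  obtain ⟨y0, m0, e0⟩ := h.D_form cQ cP (ne1 n0)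
  rw [e0] at cQ cP
  have cz := h.l.z_comm _ cQ
  have cB : ∀ b ∈ P, b * z = z * b → uu s y0 * b = b * uu s y0 := fun b hb hbz => by
    have := hB _ cP cz b hb hbz
    rwa [mul_assoc, ← hbz, ← mul_assoc, ← mul_assoc, mul_left_inj] at this
  have k : ∀ w ∈ Q, ∀ b ∈ P, b * z = z * b → ∀ y ∈ Q,
      cmv (uu s w * b * (uu s w)⁻¹ * b⁻¹) y = cmv (uu s y * b⁻¹ * (uu s y)⁻¹ * b) w := by
    intro w hw b hb hbz y hy
    have bs := h.r.z_comm b hb
    have i1 := h.l.norm b hbz w hw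
    have i2 := h.l.norm b⁻¹ (comm_inv_left hbz) y hy
    have e1 : uu s w * b * (uu s w)⁻¹ * b⁻¹ = uu s w * uu s (b * w * b⁻¹) := by
      rw [← conj_uu bs, d.uu_inv hw]; simp only [mul_assoc]
    have e2 : uu s y * b⁻¹ * (uu s y)⁻¹ * b = uu s y * uu s (b⁻¹ * y * b⁻¹⁻¹) := by
      rw [← conj_uu (comm_inv_left bs), d.uu_inv hy]; simp only [mul_assoc, inv_inv]
    rw [e1, e2, cmv_mul_left h.l.toXS (d.uu_mem hw) (d.uu_mem i1) hy,
      cmv_mul_left h.l.toXS (d.uu_mem hy) (d.uu_mem i2) hw, d.beta_symm hw hy, d.beta_symm i2 hw,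
      ← conj_uu bs, ← cmv_conj b (uu s w)]
    congr 2; group
  have ny : y0 * s ≠ s * y0 := fun e => h.symm.s_not (by
    rwa [(uu_eq_one_iff d.s_sq).2 e, one_mul] at cP)
  have k1 := M y0 m0 ny fun w hw e b hb hbz => by
    by_contra n
    obtain ⟨dQ, dP⟩ := h.comm_mem (d.uu_mem hw) (d.uu_comm_s hw) hb hbz
    have e1 : uu s w * b * (uu s w)⁻¹ * b⁻¹ = uu s y0 * z := by
      by_contra n'
      refine h.D_pair dQ dP (ne1 n) m0 cP n' (cmv_eq_zero.1 ?_).symm
      rw [k w hw b hb hbz y0 m0, cB _ (P.inv_mem hb) (comm_inv_left hbz), mul_inv_cancel_right,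
        inv_mul_cancel, cmv_eq_zero, one_mul, mul_one]
    obtain ⟨y, my, ey⟩ := d.exists_beta m0 ny
    have e2 := k w hw b hb hbz y my
    rw [e1, cmv_mul_z h.l.toXS my, ey] at e2
    obtain ⟨fQ, fP⟩ := h.comm_mem (d.uu_mem my) (d.uu_comm_s my) (P.inv_mem hb) (comm_inv_left hbz)
    rw [inv_inv] at fQ fP
    have e3 : uu s y * b⁻¹ * (uu s y)⁻¹ * b = uu s y0 * z := by
      by_contra n'
      refine h.D_pair fQ fP (fun e => ?_) m0 cP n' (cmv_eq_zero.1 ?_).symm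
      · rw [e, eq_comm, cmv_eq_one, one_mul, mul_one] at e2
        exact e2 rfl
      · have := k y my b⁻¹ (P.inv_mem hb) (comm_inv_left hbz) y0 m0
        rw [inv_inv] at this
        rw [this, cB _ hb hbz, mul_inv_cancel_right, mul_inv_cancel, cmv_eq_zero, one_mul, mul_one]
    rw [e3, cmv_mul_z h.l.toXS hw, e] at e2
    exact absurd e2 (by decide)
  have k2 := add _ cB (d.uu_comm_s m0) (d.uu_sq m0) z hz d.s_comm.symm d.z_sq
    (d.z_comm _ (d.uu_mem m0)).symm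
  have k3 : ∀ x ∈ P, ∀ w ∈ P, cmv (uu (uu s y0 * z) x) w = 0 := fun x hx w hw => by
    have h2 := h.D_sq cQ cP
    rw [cmv_eq_zero, uu]
    rcases h.r.toXS.conj hx cP with e | e <;> rw [e]
    · rw [h2, one_mul, mul_one]
    · rw [mul_assoc _ s, ← h.r.z_comm _ cP, ← mul_assoc _ _ s, h2, one_mul, h.r.z_comm w hw]
  have k4 : om x1 x2 x3 x4 (uu s y0 * z) = 0 := by
    simp only [om, k3 _ hx.m1 _ hx.m2, k3 _ hx.m1 _ hx.m3, k3 _ hx.m1 _ hx.m4,
      k3 _ hx.m2 _ hx.m3, k3 _ hx.m2 _ hx.m4, k3 _ hx.m3 _ hx.m4]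
    ext i
    fin_cases i <;> rfl
  rw [O8.add_eq_zero_iff'.1 (k2.symm.trans k4), pb_self] at k1
  exact absurd k1 (by decide)

theorem no_cp [Finite G] (hQ : We Q z) (hP : We P s) (h : Cp Q z P s) : False := by
  obtain ⟨x, hx, e0, x1, x2, x3⟩ := h.sa.transv fun y hy e => by
    by_contra hh
    exact no_nb hP (hP.map_conj y) (h.nb hy (fun e => hh (Or.inl e)) (fun e => hh (Or.inr e)) e)
  obtain ⟨x', hx', -, -, x4, -⟩ := h.symm.sa.transv fun y hy e => by
    by_contra hh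
    exact no_nb hQ (hQ.map_conj y) (h.symm.nb hy (fun e => hh (Or.inl e)) (fun e => hh (Or.inr e)) e)
  have X := h.l.toXS
  have hD : ∀ d ∈ Q, d ∈ P → d = 1 := fun d hd hd' => by
    have h1 := h.D_comm hd hd'
    have h2 := h.D_sq hd hd'
    rcases X.eq_of_comm_centralizer hx hd (fun q hq hc => by
      rcases x2 q hq hc with e | e
      · exact h1 q hq e
      · have := h1 _ (Q.mul_mem hq hx) e
        rwa [mul_assoc, x1 d hd (h.r.z_comm d hd'), ← mul_assoc, ← mul_assoc, mul_left_inj] at this)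
      with e | e | e | e
    · exact e
    · exact absurd (e ▸ hd') h.symm.s_not
    · exact absurd (by rw [← e0, ← e, h2]) X.z_ne
    · rw [e, X.z_comm x hx, mul_assoc, ← mul_assoc x, X.z_comm x hx, mul_assoc, e0, X.z_sq,
        mul_one] at h2
      exact absurd h2 X.z_ne
  have hfix : ∀ b ∈ P, b * z = z * b → ∀ y ∈ Q, y * x = x * y → Eqv z (b * y * b⁻¹) y := by
    intro b hb hbz y hy hc
    have h1 : ∀ a ∈ Q, a * s = s * a → b * a * b⁻¹ = a := fun a ha has => by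
      obtain ⟨p, q⟩ := h.comm_mem ha has hb hbz
      have := hD _ p q
      rw [mul_inv_eq_one, mul_inv_eq_iff_eq_mul] at this
      exact conj_eq_of_comm this.symm
    rcases x2 y hy hc with e | e
    · exact Or.inl (h1 y hy e)
    · have h2 := ((x3 b hbz (h.r.z_comm b hb)).mul_left (b * y * b⁻¹)).mul_right
        (comm_inv_left (X.z_comm x hx))
      rw [conj_mul, h1 _ (Q.mul_mem hy hx) e, mul_inv_cancel_right, mul_inv_cancel_right] at h2
      exact h2.symm X.z_sq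
  obtain ⟨w, hw, nw⟩ := X.exists_not_comm hx (fun e => X.z_ne (by rw [← e0, e, mul_one]))
    (fun e => X.z_ne (by rw [← e0, e, X.z_sq]))
  have triv : ∀ b ∈ P, b * z = z * b → Eqv z (b * w * b⁻¹) w → b = 1 := by
    intro b hb hbz e
    refine hD b (h.l.toLX.mem_of_trivial fun y hy => ?_) hb
    by_cases hc : y * x = x * y
    · exact hfix b hb hbz y hy hc
    · have h1 := hfix b hb hbz _ (Q.mul_mem hy hw) (X.mul_comm_of_not_comm hx hy hw hc (Ne.symm nw))
      have h2 := ((e.symm X.z_sq).mul_left (b * y * b⁻¹)).trans X.z_sq (by rw [conj_mul]; exact h1)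
      have h3 := h2.mul_right (comm_inv_left (X.z_comm w hw))
      rwa [mul_inv_cancel_right, mul_inv_cancel_right] at h3
  have nontriv : ∀ b ∈ P, b * z = z * b → b ≠ 1 → Eqv z (b * w * b⁻¹) (x * w) := by
    intro b hb hbz n
    have hm := h.l.norm b hbz w hw
    have h1 : ∀ e, Eqv z (b * w * b⁻¹ * w⁻¹) e → Eqv z (b * w * b⁻¹) (e * w) := fun e he => by
      simpa using he.mul_right (X.z_comm w hw)
    rcases X.eq_of_comm_centralizer hx (Q.mul_mem hm (Q.inv_mem hw)) (fun q hq hc => by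
      rw [← cmv_eq_zero, cmv_mul_right X hm (Q.inv_mem hw) hq,
        ← cmv_eqv X hm (hfix b hb hbz q hq hc), cmv_conj, cmv_comm q w⁻¹, cmv_inv_left, cmv_comm w,
        zmod2_add_self]) with e | e | e | e
    · exact absurd (triv b hb hbz (by simpa using h1 1 (Or.inl e))) n
    · exact absurd (triv b hb hbz (by simpa using h1 1 (Or.inr (by rw [e, one_mul])))) n
    · exact h1 x (Or.inl e)
    · exact h1 x (Or.inr e)
  have two : ∀ b ∈ P, b * z = z * b → b = 1 ∨ b = s := by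
    intro b hb hbz
    refine or_iff_not_imp_left.2 fun n => ?_
    have h1 := ((nontriv b hb hbz n).trans X.z_sq
      ((nontriv s h.r.z_mem h.comm h.r.z_ne).symm X.z_sq)).conj h.comm
    have h2 := triv (s * b) (P.mul_mem h.r.z_mem hb) (comm_mul_left h.comm hbz) (by
      convert h1 using 1
      · group
      · rw [h.sa.s_inv]; simp only [← mul_assoc, h.r.z_sq, one_mul]; rw [mul_assoc, h.r.z_sq, mul_one])
    exact (eq_inv_of_mul_eq_one_right h2).trans h.sa.s_inv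
  obtain ⟨p, hp, q, hq, c1, c2, c3⟩ := h.r.toXS.exists_noncomm_in_centralizer
    (by rw [hP.cQ]; norm_num) hx'
  have : p * q = q * p := by
    rcases x4 p hp c1 with e | e
    · rcases two p hp e with rfl | rfl
      · simp
      · exact (h.r.z_comm q hq).symm
    · have h1 : p * x' * q = q * (p * x') := by
        rcases two _ (P.mul_mem hp hx') e with e | e <;> rw [e]
        · simp
        · exact (h.r.z_comm q hq).symm
      rwa [mul_assoc, ← c2, ← mul_assoc, ← mul_assoc, mul_left_inj] at h1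
  rw [this, eq_comm, mul_eq_left] at c3
  exact h.r.z_ne c3

theorem TS.fused [Finite G] (h : TS Q z π cd S) (hS : S = spin ∨ S = natm) {g : G}
    (hc : z * (g * z * g⁻¹) = g * z * g⁻¹ * z) (hne : g * z * g⁻¹ ≠ z) :
    ∃ g : G, g * z * g⁻¹ ∈ Q ∧ g * z * g⁻¹ ≠ z := by
  by_contra hh
  push Not at hh
  have h1 : We Q z := ⟨⟨h.toLX, fun t ht e => by
    obtain ⟨c, rfl⟩ := isConj_iff.1 e
    exact hh c ht⟩, _, _, _, h, hS⟩
  exact no_cp h1 (h1.map_conj g)
    ⟨h1.toWk, (h1.map_conj g).toWk, isConj_iff.2 ⟨g, rfl⟩, hne, hc.symm⟩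

end Cfsg.Agent.ThT
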